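import Mathlib
import Cfsg.Agent.Lib.helper23.P4S.DefsC

set_option autoImplicit false

/-!
# Project P4T (designer helper6) = S3466 (10u), part CONSTR for `p = 3`, `q = 9^t`: definitions.

Contract (helper23's `MainC_tail`): `constr_three t ht`: a finite group with a nontrivial solvable normal subgroup whose spectrum is `InT4 3 (3^(2t))`.
The group is `E^12 ⋊ H12`, `E` a field with `q² = 3^(4t)` elements, `H12 = ρ₁₂ (SL₂(E))`,
`ρ₁₂ A = Sym²(A) ⊗ A^(q) ⊗ A^(3q)` (twisted tensor product, `12`-dimensional, absolutely irreducible, trivial on `-1`).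
For every `H ≤ ⟨SL₂(q²), field automorphism⟩` acting on the natural `4`-dimensional module (helper23's `p ≥ 5` construction) the order `18` occurs in
characteristic `3`, hence this module instead: the weights of `diag(b, b⁻¹)` are `b^λ`, `λ ∈ {2, 0, -2} ± q ± 3q` (all even, gcd `2`), and for `q = 9^t`
`b^λ = 1` with `b^(q²∓1) = 1`, `b² ≠ 1` happens only for `λ = ±(2q+2)`, `±(2q-2)` up to the trivial cases: the spectrum is exactly `InT4 3 q`.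

Everything lives in helper23's namespace `Cfsg.Agent.Lib.helper23.P4S` and reuses `Aff`, `gsum`, `frq` and the generic rows of his `SkelC`.
-/

namespace Cfsg.Agent.Lib.helper23.P4S

open Matrix
open scoped Kronecker

section Rho12

variable {R : Type*} [CommRing R]

/-- the symmetric square of a `2 × 2` matrix, in the basis `x², xy, y²` -/
def sym2M (A : Matrix (Fin 2) (Fin 2) R) : Matrix (Fin 3) (Fin 3) R :=
  !![A 0 0 * A 0 0, A 0 0 * A 0 1, A 0 1 * A 0 1;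
     2 * (A 0 0 * A 1 0), A 0 0 * A 1 1 + A 0 1 * A 1 0, 2 * (A 0 1 * A 1 1);
     A 1 0 * A 1 0, A 1 0 * A 1 1, A 1 1 * A 1 1]

theorem sym2M_one : sym2M (1 : Matrix (Fin 2) (Fin 2) R) = 1 := by
  ext i j
  fin_cases i <;> fin_cases j <;> simp [sym2M]

theorem sym2M_mul (A B : Matrix (Fin 2) (Fin 2) R) : sym2M (A * B) = sym2M A * sym2M B := by
  ext i j
  fin_cases i <;> fin_cases j <;>
    simp [sym2M, Matrix.mul_apply, Fin.sum_univ_succ] <;> ring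

/-- `ρ₁₂ A = Sym² A ⊗ A^φ₁ ⊗ A^φ₂` -/
def rho12M (φ₁ φ₂ : R →+* R) (A : Matrix (Fin 2) (Fin 2) R) :
    Matrix (Fin 3 × (Fin 2 × Fin 2)) (Fin 3 × (Fin 2 × Fin 2)) R :=
  sym2M A ⊗ₖ (A.map φ₁ ⊗ₖ A.map φ₂)

theorem rho12M_one (φ₁ φ₂ : R →+* R) : rho12M φ₁ φ₂ 1 = 1 := by
  unfold rho12M
  rw [sym2M_one, Matrix.map_one φ₁ (map_zero φ₁) (map_one φ₁), Matrix.map_one φ₂ (map_zero φ₂) (map_one φ₂),
    Matrix.one_kronecker_one, Matrix.one_kronecker_one]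

theorem rho12M_mul (φ₁ φ₂ : R →+* R) (A B : Matrix (Fin 2) (Fin 2) R) :
    rho12M φ₁ φ₂ (A * B) = rho12M φ₁ φ₂ A * rho12M φ₁ φ₂ B := by
  unfold rho12M
  rw [sym2M_mul, Matrix.map_mul, Matrix.map_mul, Matrix.mul_kronecker_mul, Matrix.mul_kronecker_mul]

/-- `ρ₁₂` as a monoid homomorphism on matrices -/
def rho12Hom (φ₁ φ₂ : R →+* R) :
    Matrix (Fin 2) (Fin 2) R →* Matrix (Fin 3 × (Fin 2 × Fin 2)) (Fin 3 × (Fin 2 × Fin 2)) R where
  toFun := rho12M φ₁ φ₂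
  map_one' := rho12M_one φ₁ φ₂
  map_mul' := rho12M_mul φ₁ φ₂

/-- `ρ₁₂ : SL₂(R) →* GL₁₂(R)` -/
def rho12 (φ₁ φ₂ : R →+* R) : Matrix.SpecialLinearGroup (Fin 2) R →* GL (Fin 3 × (Fin 2 × Fin 2)) R :=
  (Units.map (rho12Hom φ₁ φ₂)).comp Matrix.SpecialLinearGroup.toGL

theorem rho12_coe (φ₁ φ₂ : R →+* R) (A : Matrix.SpecialLinearGroup (Fin 2) R) :
    ((rho12 φ₁ φ₂ A : GL (Fin 3 × (Fin 2 × Fin 2)) R) :
      Matrix (Fin 3 × (Fin 2 × Fin 2)) (Fin 3 × (Fin 2 × Fin 2)) R) = rho12M φ₁ φ₂ A.1 := rfl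

/-- the image of `SL₂` on the `12`-dimensional twisted tensor module -/
def H12 (φ₁ φ₂ : R →+* R) : Subgroup (GL (Fin 3 × (Fin 2 × Fin 2)) R) := (rho12 φ₁ φ₂).range

/-- the weights of `diag(b, b⁻¹)` on `ρ₁₂` (twists `x ↦ x^q`, `x ↦ x^(3q)`): `b^λ`, `λ ∈ {2, 0, -2} ± q ± 3q` -/
def wt12 {K : Type*} [Field K] (b : K) (q : ℕ) : Fin 3 × (Fin 2 × Fin 2) → K :=
  fun j => (![b * b, 1, b⁻¹ * b⁻¹] j.1) * ((![b, b⁻¹] j.2.1) ^ q * (![b, b⁻¹] j.2.2) ^ (3 * q))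

/-- the exponents `λ` of the weights -/
def lam12 (q : ℕ) : Fin 3 × (Fin 2 × Fin 2) → ℤ :=
  fun j => (![2, 0, -2] j.1) + ((![1, -1] j.2.1) * (q : ℤ) + (![1, -1] j.2.2) * (3 * (q : ℤ)))

end Rho12

end Cfsg.Agent.Lib.helper23.P4S
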